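import Groth.Agent.CplExcLib.Derivations
import Groth.Agent.NagataLib.SubfieldChoice
import Mathlib.RingTheory.AlgebraicIndependent.TranscendenceBasis
import Mathlib.RingTheory.Algebraic.Integral

/-!
# Derivations of domains of finite type over a power series ring in characteristic `p`
-/

set_option autoImplicit false
set_option linter.style.haveILetI false
set_option maxHeartbeats 800000

universe u v

open Groth.Agent CplExcLib

namespace Groth.Agent.DerivFTLib

/-- Given a family of subrings of a domain whose intersection consists of the `p`-th powers, an element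
of a finite extension of the fraction field which is not a `p`-th power is moved by a derivation
killing one of the subrings. -/
theorem exists_derivation_field (p : ℕ) [Fact p.Prime] {α R K L : Type u} [CommRing R] [IsDomain R] [DecidableEq α]
    [Field K] [Algebra R K] [IsFractionRing R K] [Field L] [Algebra R L] [Algebra K L] [IsScalarTower R K L]
    [FiniteDimensional K L] [CharP K p] [CharP L p]
    (RS : Finset α → Subring R) (hmono : ∀ S S', S ⊆ S' → RS S' ≤ RS S) (hpow : ∀ S r, r ^ p ∈ RS S)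
    (hdiv : ∀ S v z, v ∈ RS S → v ≠ 0 → v * z ∈ RS S → z ∈ RS S)
    (hinter : ∀ r, (∀ S, r ∈ RS S) → ∃ y, y ^ p = r) (x : L) (hf : ∀ y : L, y ^ p ≠ x) :
    ∃ S, ∃ D : L →+ L, D x = 1 ∧ (∀ a b, D (a * b) = a * D b + b * D a) ∧
      ∀ r ∈ RS S, D (algebraMap R L r) = 0 := by
  classical
  let KS := fun S ↦ Subfield.closure (algebraMap R K '' (RS S : Set R))
  have hKSpow : ∀ S (x : K), x ^ p ∈ KS S := fun S x ↦ by
    obtain ⟨a, b, -, rfl⟩ := IsFractionRing.div_surjective R x
    rw [div_pow, ← map_pow, ← map_pow]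
    exact (KS S).div_mem (Subfield.subset_closure ⟨_, hpow S a, rfl⟩)
      (Subfield.subset_closure ⟨_, hpow S b, rfl⟩)
  have hKSinter : ∀ x : K, (∀ S, x ∈ KS S) → x ∈ Set.range fun y : K ↦ y ^ p :=
    NagataLib.exists_pow_of_mem_closure p RS hpow hdiv hinter
  let bL := Module.finBasis K L
  let v : Option (Fin (Module.finrank K L)) → L := fun o ↦ o.elim (x) fun i ↦ bL i ^ p
  obtain ⟨S, hS⟩ := exists_indep KS (fun S S' ↦ ⟨S ∪ S', by
      constructor <;> refine Subfield.closure_mono (Set.image_mono fun g hg ↦ hmono _ _ ?_ hg)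
      exacts [Finset.subset_union_left, Finset.subset_union_right]⟩)
    (Set.range fun y : K ↦ y ^ p) hKSinter ⟨0, zero_pow (Fact.out : p.Prime).ne_zero⟩ ⟨1, one_pow p⟩
    (by
      rintro _ ⟨y, rfl⟩
      exact ⟨-y, by
        show (-y) ^ p = -(y ^ p)
        rw [neg_pow, neg_one_pow_expChar K p, neg_one_mul]⟩)
    v Finset.univ (fun c hc hsum ↦ by
      choose e he using fun o ↦ hc o (Finset.mem_univ o)
      simp only at he
      haveI : ExpChar L p := ExpChar.prime (Fact.out : p.Prime)
      rw [Fintype.sum_option] at hsum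
      simp only [v, Option.elim, ← he] at hsum
      have hsum' : algebraMap K L (e none) ^ p * x +
          (∑ i, e (some i) • bL i) ^ p = 0 := by
        rw [sum_pow_char p, ← hsum, Algebra.smul_def, map_pow]
        congr 1
        exact Finset.sum_congr rfl fun i _ ↦ by rw [Algebra.smul_def, Algebra.smul_def, mul_pow, map_pow]
      have hnone : e none = 0 := by
        by_contra h0
        have h0' : algebraMap K L (e none) ≠ 0 := (map_ne_zero _).mpr h0
        refine hf ((-∑ i, e (some i) • bL i) / algebraMap K L (e none)) ?_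
        rw [div_pow, div_eq_iff (pow_ne_zero _ h0'), neg_pow, neg_one_pow_expChar L p, neg_one_mul,
          neg_eq_iff_add_eq_zero, mul_comm, add_comm]
        exact hsum'
      rw [hnone, map_zero, zero_pow (Fact.out : p.Prime).ne_zero, zero_mul, zero_add,
        pow_eq_zero_iff (Fact.out : p.Prime).ne_zero] at hsum'
      rintro (_ | i) -
      · rw [← he, hnone, zero_pow (Fact.out : p.Prime).ne_zero]
      · rw [← he, Fintype.linearIndependent_iff.mp bL.linearIndependent _ hsum' i,
          zero_pow (Fact.out : p.Prime).ne_zero])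
  -- the span of the `p`-th powers of a basis over `KS S`
  let W : Set L := {x | ∃ c : Fin (Module.finrank K L) → K, (∀ i, c i ∈ KS S) ∧ ∑ i, c i • bL i ^ p = x}
  haveI : ExpChar L p := ExpChar.prime (Fact.out : p.Prime)
  have hWpow : ∀ x : L, x ^ p ∈ W := fun x ↦ ⟨fun i ↦ bL.repr x i ^ p, fun i ↦ hKSpow S _, by
    conv_rhs => rw [← bL.sum_repr x, sum_pow_char p]
    exact Finset.sum_congr rfl fun i _ ↦ by rw [Algebra.smul_def, Algebra.smul_def, mul_pow, map_pow]⟩
  have hWadd : ∀ x ∈ W, ∀ y ∈ W, x + y ∈ W := by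
    rintro _ ⟨c, hc, rfl⟩ _ ⟨d, hd, rfl⟩
    exact ⟨fun i ↦ c i + d i, fun i ↦ (KS S).add_mem (hc i) (hd i),
      by simp only [add_smul, Finset.sum_add_distrib]⟩
  have hWsmul : ∀ a ∈ KS S, ∀ x ∈ W, algebraMap K L a * x ∈ W := by
    rintro a ha _ ⟨c, hc, rfl⟩
    refine ⟨fun i ↦ a * c i, fun i ↦ (KS S).mul_mem ha (hc i), ?_⟩
    rw [Finset.mul_sum]
    exact Finset.sum_congr rfl fun i _ ↦ by rw [← Algebra.smul_def, smul_smul]
  have hW0 : (0 : L) ∈ W := ⟨0, fun _ ↦ (KS S).zero_mem, by simp⟩
  have hWsum : ∀ (t : Finset (Fin (Module.finrank K L))) (g : Fin (Module.finrank K L) → L),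
      (∀ i ∈ t, g i ∈ W) → ∑ i ∈ t, g i ∈ W := fun t g hg ↦
    Finset.sum_induction g (· ∈ W) (fun a b ha hb ↦ hWadd a ha b hb) hW0 hg
  have hWmul : ∀ x ∈ W, ∀ y ∈ W, x * y ∈ W := by
    rintro _ ⟨c, hc, rfl⟩ _ ⟨d, hd, rfl⟩
    rw [Finset.sum_mul]
    refine hWsum _ _ fun i _ ↦ ?_
    rw [Finset.mul_sum]
    refine hWsum _ _ fun j _ ↦ ?_
    rw [Algebra.smul_def, Algebra.smul_def, mul_mul_mul_comm, ← map_mul, ← mul_pow]
    exact hWsmul _ ((KS S).mul_mem (hc i) (hd j)) _ (hWpow _)
  have hfW : x ∉ Algebra.adjoin (EGA41.pPowerSubalgebra p (RS S) L) (∅ : Set L) := by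
    intro hmemf
    have hP : ∀ x ∈ EGA41.pPowerSubalgebra p (RS S) L, x ∈ W := fun x hx ↦ by
      induction hx using Algebra.adjoin_induction with
      | mem _ h => obtain ⟨b, rfl⟩ := h; exact hWpow b
      | algebraMap a =>
        have h := hWsmul (algebraMap R K a) (Subfield.subset_closure ⟨a, a.2, rfl⟩) _ (hWpow 1)
        rwa [one_pow, mul_one, ← IsScalarTower.algebraMap_apply] at h
      | add _ _ _ _ ha hb => exact hWadd _ ha _ hb
      | mul _ _ _ _ ha hb => exact hWmul _ ha _ hb
    rw [Algebra.adjoin_empty, Algebra.mem_bot] at hmemf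
    obtain ⟨⟨x, hx⟩, hxf⟩ := hmemf
    obtain ⟨c, hc, hcsum⟩ := hP x hx
    have := hS (fun o ↦ o.elim (-1) c) (by
      rintro (_ | i) -
      · exact (KS S).neg_mem (KS S).one_mem
      · exact hc i) (by
      rw [Fintype.sum_option]
      simp only [v, Option.elim, hcsum, neg_smul, one_smul]
      rw [← hxf]
      exact neg_add_cancel _) none (Finset.mem_univ _)
    simp at this
  have hind : PBasisLib.SetIndep (A := RS S) p ({x} : Set L) := by
    have h := PBasisLib.setIndep_insert (A := RS S) p (PBasisLib.setIndep_empty (A := RS S) (K := L) p) hfW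
    rwa [insert_empty_eq] at h
  obtain ⟨T, hfT, -, hT⟩ := PBasisLib.exists_pBasis_between (A := RS S) (K := L) p Set.univ _ (Set.subset_univ _)
    (PBasisLib.isPGenerating_univ (A := RS S) (K := L) p) hind
  obtain ⟨D, hD⟩ := PBasisLib.exists_derivation_base (A := RS S) (L := L) p hT fun _ ↦ 1
  have hDf : D x = 1 := hD ⟨_, hfT rfl⟩
  exact ⟨S, D.toLinearMap.toAddMonoidHom, hDf, fun a b ↦ D.leibniz a b, fun r hr ↦ D.map_algebraMap (⟨r, hr⟩ : RS S)⟩

section poly

variable {A : Type u} [CommRing A] {σ : Type u} (p : ℕ)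

/-- Polynomials in the `p`-th powers of the variables with coefficients in `T`. -/
def polySubring (T : Subring A) : Subring (MvPolynomial σ A) where
  carrier := {g | ∀ I, MvPolynomial.coeff I g ∈ T ∧ (MvPolynomial.coeff I g ≠ 0 → ∀ i, p ∣ I i)}
  zero_mem' := fun I ↦ by simp
  one_mem' := fun I ↦ by
    classical
    rw [MvPolynomial.coeff_one]
    split_ifs with h
    · subst h; simp [T.one_mem]
    · simp
  add_mem' := fun {a b} ha hb I ↦ by
    rw [MvPolynomial.coeff_add]
    refine ⟨T.add_mem (ha I).1 (hb I).1, fun h i ↦ ?_⟩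
    by_cases h' : MvPolynomial.coeff I a = 0
    · exact (hb I).2 (by simpa [h'] using h) i
    · exact (ha I).2 h' i
  neg_mem' := fun {a} ha I ↦ by
    rw [MvPolynomial.coeff_neg]
    exact ⟨T.neg_mem (ha I).1, fun h ↦ (ha I).2 (by simpa using h)⟩
  mul_mem' := fun {a b} ha hb I ↦ by
    classical
    rw [MvPolynomial.coeff_mul]
    refine ⟨T.sum_mem fun z _ ↦ T.mul_mem (ha _).1 (hb _).1, fun h i ↦ ?_⟩
    obtain ⟨z, hz, hne⟩ := Finset.exists_ne_zero_of_sum_ne_zero h
    rw [← Finset.HasAntidiagonal.mem_antidiagonal.mp hz, Finsupp.add_apply]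
    exact Nat.dvd_add ((ha _).2 (left_ne_zero_of_mul hne) i) ((hb _).2 (right_ne_zero_of_mul hne) i)

theorem monomial_mem_polySubring {T : Subring A} {a : A} (ha : a ∈ T) {m : σ →₀ ℕ} (hm : ∀ i, p ∣ m i) :
    MvPolynomial.monomial m a ∈ polySubring p T := fun I ↦ by
  classical
  rw [MvPolynomial.coeff_monomial]
  split_ifs with h
  · subst h; exact ⟨ha, fun _ ↦ hm⟩
  · simp

theorem pow_mem_polySubring [Fact p.Prime] [CharP A p] (T : Subring A) (hT : ∀ a : A, a ^ p ∈ T)
    (g : MvPolynomial σ A) : g ^ p ∈ polySubring p T := by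
  induction g using MvPolynomial.induction_on' with
  | monomial m a =>
    rw [MvPolynomial.monomial_pow]
    exact monomial_mem_polySubring p (hT a) fun i ↦ ⟨m i, by simp⟩
  | add f g hf hg => rw [add_pow_char]; exact add_mem hf hg

theorem exists_pow_of_mem_polySubring [Fact p.Prime] [CharP A p] {α : Type v} [Nonempty α] (T : α → Subring A)
    (hinter : ∀ a, (∀ S, a ∈ T S) → ∃ y, y ^ p = a) (g : MvPolynomial σ A) (hg : ∀ S, g ∈ polySubring p (T S)) :
    ∃ y, y ^ p = g := by
  classical
  have h : ∀ I, ∃ y, y ^ p = MvPolynomial.coeff I g := fun I ↦ hinter _ fun S ↦ (hg S I).1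
  choose y hy using h
  refine ⟨∑ I ∈ g.support, MvPolynomial.monomial (I.mapRange (· / p) (Nat.zero_div p)) (y I), ?_⟩
  rw [sum_pow_char p]
  conv_rhs => rw [g.as_sum]
  refine Finset.sum_congr rfl fun I hI ↦ ?_
  rw [MvPolynomial.monomial_pow, hy]
  congr 2
  exact Finsupp.ext fun i ↦ by
    rw [Finsupp.smul_apply, Finsupp.mapRange_apply, smul_eq_mul,
      Nat.mul_div_cancel' ((hg (Classical.arbitrary α) I).2 (MvPolynomial.mem_support_iff.mp hI) i)]

theorem mem_of_mul_mem_field {k : Type u} [Field k] (F : Subfield k) {v z : MvPolynomial σ k}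
    (hv : v ∈ polySubring p F.toSubring) (hv0 : v ≠ 0) (h : v * z ∈ polySubring p F.toSubring) :
    z ∈ polySubring p F.toSubring := by
  classical
  obtain ⟨π, hπ⟩ := LinearMap.exists_leftInverse_of_injective (Algebra.linearMap F k)
    (LinearMap.ker_eq_bot.mpr Subtype.val_injective)
  have hπ' : ∀ x : F, π (x : k) = x := fun x ↦ LinearMap.congr_fun hπ x
  let w : MvPolynomial σ k :=
    ∑ I ∈ z.support.filter (fun I ↦ ∀ i, p ∣ I i), MvPolynomial.monomial I (π (z.coeff I) : k)
  have hwI : ∀ I, w.coeff I = if ∀ i, p ∣ I i then (π (z.coeff I) : k) else 0 := fun I ↦ by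
    show MvPolynomial.coeff I (∑ J ∈ _, _) = _
    rw [MvPolynomial.coeff_sum]
    simp only [MvPolynomial.coeff_monomial, Finset.sum_ite_eq', Finset.mem_filter, MvPolynomial.mem_support_iff]
    by_cases h0 : z.coeff I = 0
    · simp [h0]
    · simp [h0]
  have hw : w ∈ polySubring p F.toSubring := sum_mem fun I hI ↦
    monomial_mem_polySubring p (π _).2 (Finset.mem_filter.mp hI).2
  suffices hvw : v * w = v * z by
    rwa [← mul_left_cancel₀ hv0 hvw]
  refine MvPolynomial.ext _ _ fun I ↦ ?_
  by_cases hI : ∀ i, p ∣ I i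
  · rw [MvPolynomial.coeff_mul, ← show ((π ((v * z).coeff I) : F) : k) = (v * z).coeff I from
      congrArg Subtype.val (hπ' ⟨_, (h I).1⟩), MvPolynomial.coeff_mul, map_sum, AddSubmonoidClass.coe_finset_sum]
    refine Finset.sum_congr rfl fun q hq ↦ ?_
    rw [hwI]
    by_cases h0 : v.coeff q.1 = 0
    · simp [h0]
    · have hq2 : ∀ i, p ∣ q.2 i := fun i ↦ by
        have h2 := hI i
        rw [← Finset.HasAntidiagonal.mem_antidiagonal.mp hq, Finsupp.add_apply] at h2
        exact (Nat.dvd_add_iff_right ((hv _).2 h0 i)).mpr h2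
      rw [if_pos hq2]
      have hsmul : (v.coeff q.1) * (z.coeff q.2) = (⟨_, (hv q.1).1⟩ : F) • (z.coeff q.2) := rfl
      rw [hsmul, map_smul]
      rfl
  · have hz : (v * z).coeff I = 0 := by_contra fun hne ↦ hI ((h I).2 hne)
    have hw' : (v * w).coeff I = 0 := by_contra fun hne ↦ hI ((mul_mem hv hw I).2 hne)
    rw [hz, hw']

/-- Relative closedness under division passes from a ring to its polynomial ring. -/
theorem mem_of_mul_mem_poly [IsDomain A] {T : Subring A}
    (hdiv : ∀ v z, v ∈ T → v ≠ 0 → v * z ∈ T → z ∈ T) {v z : MvPolynomial σ A}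
    (hv : v ∈ polySubring p T) (hv0 : v ≠ 0) (h : v * z ∈ polySubring p T) : z ∈ polySubring p T := by
  classical
  let K := FractionRing A
  let ι := algebraMap A K
  have hι : Function.Injective ι := IsFractionRing.injective A K
  let F := Subfield.closure (ι '' (T : Set A))
  have hmap : ∀ g : MvPolynomial σ A, g ∈ polySubring p T → MvPolynomial.map ι g ∈ polySubring p F.toSubring :=
    fun g hg I ↦ by
      rw [MvPolynomial.coeff_map]
      exact ⟨Subfield.subset_closure ⟨_, (hg I).1, rfl⟩, fun hne ↦ (hg I).2 fun h0 ↦ hne (by rw [h0, map_zero])⟩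
  have hinj : Function.Injective (MvPolynomial.map (σ := σ) ι) := MvPolynomial.map_injective ι hι
  have hz := mem_of_mul_mem_field p F (hmap v hv) (fun h0 ↦ hv0 (hinj (by rw [h0, map_zero])))
    (by rw [← map_mul]; exact hmap _ h)
  intro I
  obtain ⟨hmem, hd⟩ := hz I
  rw [MvPolynomial.coeff_map] at hmem hd
  refine ⟨?_, fun hne ↦ hd fun h0 ↦ hne (hι (by rw [h0, map_zero]))⟩
  obtain ⟨y, hy, w, hw, huv⟩ := Subfield.mem_closure_iff.mp hmem
  rw [show Subring.closure (ι '' (T : Set A)) = T.map ι by rw [← RingHom.map_closure, Subring.closure_eq]] at hy hw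
  obtain ⟨a, ha, rfl⟩ := hy
  obtain ⟨b, hb, rfl⟩ := hw
  by_cases hb0 : ι b = 0
  · rw [hb0, div_zero] at huv
    rw [show MvPolynomial.coeff I z = 0 from hι (by rw [← huv, map_zero])]
    exact zero_mem _
  · refine hdiv b _ hb (fun h0 ↦ hb0 (by rw [h0, map_zero])) ?_
    rw [div_eq_iff hb0, ← map_mul] at huv
    rw [mul_comm, ← hι huv]
    exact ha

end poly

/-- A non `p`-th power in a domain of finite type over a power series ring over a field of characteristic `p` is
moved by a derivation of that domain. -/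
theorem exists_derivation_finiteType (p : ℕ) [Fact p.Prime] (k : Type u) [Field k] [CharP k p] (n : ℕ) (U : Type u)
    [CommRing U] [IsDomain U] [Algebra (MvPowerSeries (Fin n) k) U] [Algebra.FiniteType (MvPowerSeries (Fin n) k) U]
    (hinj : Function.Injective (algebraMap (MvPowerSeries (Fin n) k) U)) (f : U)
    (hf : ∀ y : FractionRing U, y ^ p ≠ algebraMap U (FractionRing U) f) :
    ∃ D : Derivation ℤ U U, D f ≠ 0 := by
  classical
  let P := MvPowerSeries (Fin n) k
  haveI : IsDomain P := NoZeroDivisors.to_isDomain _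
  haveI : CharP P p := charP_of_injective_ringHom (MvPowerSeries.C (σ := Fin n) (R := k)).injective p
  haveI : FaithfulSMul P U := (faithfulSMul_iff_algebraMap_injective P U).mpr hinj
  obtain ⟨s, hs⟩ := (Algebra.FiniteType.out : (⊤ : Subalgebra P U).FG)
  haveI : Algebra.IsAlgebraic (Algebra.adjoin P (s : Set U)) U := ⟨fun u ↦
    isAlgebraic_algebraMap (⟨u, hs ▸ Algebra.mem_top⟩ : Algebra.adjoin P (s : Set U))⟩
  obtain ⟨t, -, ht⟩ := exists_isTranscendenceBasis_subset (R := P) (s : Set U)
  let Q := MvPolynomial t P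
  letI : Algebra Q U := (MvPolynomial.aeval (Subtype.val : t → U)).toRingHom.toAlgebra
  haveI : IsScalarTower P Q U := IsScalarTower.of_algebraMap_eq fun x ↦ ((MvPolynomial.aeval (Subtype.val : t → U)).commutes x).symm
  haveI : CharP Q p := charP_of_injective_ringHom (MvPolynomial.C_injective t P) p
  let K := FractionRing Q
  let L := FractionRing U
  haveI : FaithfulSMul Q U := (faithfulSMul_iff_algebraMap_injective Q U).mpr ht.1
  haveI : FaithfulSMul Q L := (faithfulSMul_iff_algebraMap_injective Q L).mpr (by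
    rw [IsScalarTower.algebraMap_eq Q U L]; exact (IsFractionRing.injective U L).comp ht.1)
  letI : Algebra K L := FractionRing.liftAlgebra Q L
  haveI : CharP K p := charP_of_injective_ringHom (IsFractionRing.injective Q K) p
  haveI : CharP L p := charP_of_injective_ringHom (algebraMap K L).injective p
  have halgQ : ∀ u : U, IsIntegral K (algebraMap U L u) := fun u ↦ by
    haveI := ht.isAlgebraic
    obtain ⟨q, hq0, hq⟩ := Algebra.IsAlgebraic.isAlgebraic (R := Algebra.adjoin P (Set.range (Subtype.val : t → U))) u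
    let e : Q →+* Algebra.adjoin P (Set.range (Subtype.val : t → U)) := ht.1.aevalEquiv.toAlgHom.toRingHom
    obtain ⟨q', rfl⟩ := Polynomial.map_surjective e ht.1.aevalEquiv.surjective q
    have h1 : IsAlgebraic Q u := ⟨q', fun h0 ↦ hq0 (by rw [h0, Polynomial.map_zero]), by
      rw [Polynomial.aeval_def, Polynomial.eval₂_map] at hq
      rw [Polynomial.aeval_def, ← hq]
      rfl⟩
    exact ((h1.algHom (IsScalarTower.toAlgHom Q U L)).extendScalars (IsFractionRing.injective Q K)).isIntegral
  haveI : FiniteDimensional K L := by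
    let E := Algebra.adjoin K (algebraMap U L '' (s : Set U))
    have hint : ∀ x ∈ algebraMap U L '' (s : Set U), IsIntegral K x := by
      rintro _ ⟨u, -, rfl⟩
      exact halgQ u
    have hU : ∀ u : U, algebraMap U L u ∈ E := fun u ↦ by
      have : u ∈ Algebra.adjoin P (s : Set U) := hs ▸ Algebra.mem_top
      induction this using Algebra.adjoin_induction with
      | mem x hx => exact Algebra.subset_adjoin ⟨x, hx, rfl⟩
      | algebraMap a =>
        rw [IsScalarTower.algebraMap_apply P Q U, ← IsScalarTower.algebraMap_apply Q U L,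
          IsScalarTower.algebraMap_apply Q K L]
        exact Subalgebra.algebraMap_mem _ _
      | add x y _ _ hx hy => rw [map_add]; exact add_mem hx hy
      | mul x y _ _ hx hy => rw [map_mul]; exact mul_mem hx hy
    have htop : E = ⊤ := eq_top_iff.mpr fun x _ ↦ by
      obtain ⟨a, b, -, rfl⟩ := IsFractionRing.div_surjective U x
      rw [div_eq_mul_inv]
      exact mul_mem (hU a) (Subalgebra.inv_mem_of_algebraic E (x := ⟨_, hU b⟩) (halgQ b).isAlgebraic)
    exact ⟨by rw [← Algebra.top_toSubmodule, ← htop]; exact fg_adjoin_of_finite (s.finite_toSet.image _) hint⟩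
  obtain ⟨F, hmono, hpow, hfin, hinter⟩ := exists_subfield_family p k
  let PS := fun S ↦ psSubring (n := n) p (F S)
  let RS : Finset k → Subring Q := fun S ↦ polySubring p (PS S)
  obtain ⟨S, D, hD, hlz, hDR⟩ := exists_derivation_field (K := K) p RS
    (fun S S' h g hg I ↦ ⟨fun J ↦ ⟨hmono S S' h ((hg I).1 J).1, ((hg I).1 J).2⟩, (hg I).2⟩)
    (fun S ↦ pow_mem_polySubring p _ (pow_mem_psSubring p (F S) (hpow S)))
    (fun S v z hv hv0 h ↦ mem_of_mul_mem_poly p (fun v z hv hv0 h ↦ mem_of_mul_mem p (F S) hv hv0 h) hv hv0 h)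
    (exists_pow_of_mem_polySubring p PS (NagataLib.exists_pow_of_mem p F hinter))
    (algebraMap U L f) hf
  have hD0 : ∀ a ∈ PS S, D (algebraMap U L (algebraMap P U a)) = 0 := fun a ha ↦ by
    have hmem : (MvPolynomial.C a : Q) ∈ RS S := monomial_mem_polySubring p ha fun i ↦ dvd_zero p
    rw [IsScalarTower.algebraMap_apply P Q U, ← IsScalarTower.algebraMap_apply Q U L]
    exact hDR _ hmem
  -- clear denominators
  haveI : Module.Finite (PS S) P := by
    haveI := hfin S
    exact finite_psSubring p (F S) (Fact.out : p.Prime).pos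
  obtain ⟨G, hG⟩ := (inferInstance : Module.Finite (PS S) P).fg_top
  obtain ⟨⟨c, hc⟩, hcD⟩ := IsLocalization.exist_integer_multiples (nonZeroDivisors U)
    (s ∪ G.image (algebraMap P U)) fun u ↦ D (algebraMap U L u)
  have hint : ∀ u : U, ∃ w : U, algebraMap U L w = algebraMap U L c * D (algebraMap U L u) := fun u ↦ by
    have : u ∈ Algebra.adjoin P (s : Set U) := hs ▸ Algebra.mem_top
    induction this using Algebra.adjoin_induction with
    | mem x hx =>
      obtain ⟨w, hw⟩ := hcD x (Finset.mem_union_left _ hx)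
      exact ⟨w, hw.trans (Algebra.smul_def c _)⟩
    | algebraMap a =>
      have ha : a ∈ Submodule.span (PS S) (G : Set P) := hG ▸ Submodule.mem_top
      induction ha using Submodule.span_induction with
      | mem x hx =>
        obtain ⟨w, hw⟩ := hcD _ (Finset.mem_union_right _ (Finset.mem_image_of_mem _ hx))
        exact ⟨w, hw.trans (Algebra.smul_def c _)⟩
      | zero => exact ⟨0, by simp⟩
      | add x y _ _ hx hy =>
        obtain ⟨a, ha⟩ := hx; obtain ⟨b, hb⟩ := hy
        exact ⟨a + b, by simp only [map_add, mul_add, ha, hb]⟩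
      | smul r x _ hx =>
        obtain ⟨a, ha⟩ := hx
        exact ⟨algebraMap P U r * a, by
          rw [Subring.smul_def, smul_eq_mul, map_mul (algebraMap P U), map_mul, map_mul, ha, hlz,
            hD0 _ r.2, mul_zero, add_zero]
          ring⟩
    | add x y _ _ hx hy =>
      obtain ⟨a, ha⟩ := hx; obtain ⟨b, hb⟩ := hy
      exact ⟨a + b, by simp only [map_add, mul_add, ha, hb]⟩
    | mul x y _ _ hx hy =>
      obtain ⟨a, ha⟩ := hx; obtain ⟨b, hb⟩ := hy
      exact ⟨x * b + y * a, by
        rw [map_add, map_mul, map_mul, map_mul, ha, hb, hlz]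
        ring⟩
  choose w hw using hint
  have hinjU := IsFractionRing.injective U L
  let Dl : U →+ U :=
    { toFun := w
      map_zero' := hinjU (by rw [hw]; simp)
      map_add' := fun a b ↦ hinjU (by rw [map_add, hw, hw, hw, map_add, map_add, mul_add]) }
  refine ⟨Derivation.mk' Dl.toIntLinearMap fun a b ↦ hinjU ?_, fun h ↦ ?_⟩
  · show algebraMap U L (w (a * b)) = algebraMap U L (a • w b + b • w a)
    simp only [hw, map_mul, map_add, hlz, smul_eq_mul]
    ring
  · have h' : algebraMap U L (w f) = 0 := by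
      rw [show w f = 0 from h, map_zero]
    rw [hw, hD, mul_one, map_eq_zero_iff _ hinjU] at h'
    exact nonZeroDivisors.ne_zero hc h'

end Groth.Agent.DerivFTLib
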